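import Cfsg.Agent.Lib.Spor.ThRep.ChainData19

/-!
Steps of the 19-chain.
-/

set_option autoImplicit false
set_option Elab.async false
set_option maxRecDepth 100000

namespace CfsgLib.Spor.ThRep

theorem okVecs19_0 : okVecs 0 ps19 v19_0 vs19_0 = true := by decide +kernel

theorem okPow19_0 : okPow 19 0 ps19 pw19_0 = true := by decide +kernel

theorem okConj19_0 : okConj 0 ps19 cj19_0 = true := by decide +kernel

end CfsgLib.Spor.ThRep
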