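import Cfsg.Agent.Lib.Spor.ThRep.Chain19Image
import Cfsg.Agent.Lib.Spor.ThRep.Chain19Step0

/-!
The order of the Thompson group is divisible by `19 ^ 1`.
-/

set_option autoImplicit false
set_option Elab.async false
set_option maxRecDepth 100000

namespace CfsgLib.Spor.ThRep

theorem dvd19 : 19 ^ 1 ∣ Nat.card Cfsg.Spor.Th := by
  have i0 := runChk_next (by simp) ok_prog19_0
  have hi : ∀ j < 1, InImage (ps19 j) := by
    intro j hj
    interval_cases j <;> exact i0 _ (by simp [outs19_0, ps19])
  obtain ⟨g, hg, hr⟩ := exists_gens hi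
  have hq : Nat.Prime 19 := by norm_num
  refine dvd_card_th (k := 1) hr ?_
  refine chain_step hq (fun j hj => hg j (by omega)) okVecs19_0 okPow19_0 okConj19_0 ?_
  exact chain_start g 19

end CfsgLib.Spor.ThRep
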