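import Cfsg.Agent.Lib.Spor.ThRep.ChainData3

/-!
Steps of the 3-chain.
-/

set_option autoImplicit false
set_option Elab.async false
set_option maxRecDepth 100000

namespace CfsgLib.Spor.ThRep

theorem okVecs3_0 : okVecs 0 ps3 v3_0 vs3_0 = true := by decide +kernel

theorem okPow3_0 : okPow 3 0 ps3 pw3_0 = true := by decide +kernel

theorem okConj3_0 : okConj 0 ps3 cj3_0 = true := by decide +kernel

theorem okVecs3_1 : okVecs 1 ps3 v3_1 vs3_1 = true := by decide +kernel

theorem okPow3_1 : okPow 3 1 ps3 pw3_1 = true := by decide +kernel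

theorem okConj3_1 : okConj 1 ps3 cj3_1 = true := by decide +kernel

theorem okVecs3_2 : okVecs 2 ps3 v3_2 vs3_2 = true := by decide +kernel

theorem okPow3_2 : okPow 3 2 ps3 pw3_2 = true := by decide +kernel

theorem okConj3_2 : okConj 2 ps3 cj3_2 = true := by decide +kernel

theorem okVecs3_3 : okVecs 3 ps3 v3_3 vs3_3 = true := by decide +kernel

theorem okPow3_3 : okPow 3 3 ps3 pw3_3 = true := by decide +kernel

theorem okConj3_3 : okConj 3 ps3 cj3_3 = true := by decide +kernel

theorem okVecs3_4 : okVecs 4 ps3 v3_4 vs3_4 = true := by decide +kernel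

theorem okPow3_4 : okPow 3 4 ps3 pw3_4 = true := by decide +kernel

theorem okConj3_4 : okConj 4 ps3 cj3_4 = true := by decide +kernel

theorem okVecs3_5 : okVecs 5 ps3 v3_5 vs3_5 = true := by decide +kernel

theorem okPow3_5 : okPow 3 5 ps3 pw3_5 = true := by decide +kernel

theorem okConj3_5 : okConj 5 ps3 cj3_5 = true := by decide +kernel

theorem okVecs3_6 : okVecs 6 ps3 v3_6 vs3_6 = true := by decide +kernel

theorem okPow3_6 : okPow 3 6 ps3 pw3_6 = true := by decide +kernel

theorem okConj3_6 : okConj 6 ps3 cj3_6 = true := by decide +kernel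

theorem okVecs3_7 : okVecs 7 ps3 v3_7 vs3_7 = true := by decide +kernel

theorem okPow3_7 : okPow 3 7 ps3 pw3_7 = true := by decide +kernel

theorem okConj3_7 : okConj 7 ps3 cj3_7 = true := by decide +kernel

end CfsgLib.Spor.ThRep
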