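import Cfsg.Agent.Lib.Spor.ThRep.ChainData3

/-!
Steps of the 3-chain.
-/

set_option autoImplicit false
set_option Elab.async false
set_option maxRecDepth 100000

namespace CfsgLib.Spor.ThRep

theorem okVecs3_8 : okVecs 8 ps3 v3_8 vs3_8 = true := by decide +kernel

theorem okPow3_8 : okPow 3 8 ps3 pw3_8 = true := by decide +kernel

theorem okConj3_8 : okConj 8 ps3 cj3_8 = true := by decide +kernel

theorem okVecs3_9 : okVecs 9 ps3 v3_9 vs3_9 = true := by decide +kernel

theorem okPow3_9 : okPow 3 9 ps3 pw3_9 = true := by decide +kernel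

theorem okConj3_9 : okConj 9 ps3 cj3_9 = true := by decide +kernel

end CfsgLib.Spor.ThRep
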