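import Cfsg.Agent.Lib.Spor.ThRep.Chain3Image
import Cfsg.Agent.Lib.Spor.ThRep.Chain3Step0
import Cfsg.Agent.Lib.Spor.ThRep.Chain3Step1

/-!
The order of the Thompson group is divisible by `3 ^ 10`.
-/

set_option autoImplicit false
set_option Elab.async false
set_option maxRecDepth 100000

namespace CfsgLib.Spor.ThRep

theorem dvd3 : 3 ^ 10 ∣ Nat.card Cfsg.Spor.Th := by
  have i0 := runChk_next (by simp) ok_prog3_0
  have i1 := runChk_next i0 ok_prog3_1
  have i2 := runChk_next i1 ok_prog3_2
  have i3 := runChk_next i2 ok_prog3_3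
  have i4 := runChk_next i3 ok_prog3_4
  have i5 := runChk_next i4 ok_prog3_5
  have i6 := runChk_next i5 ok_prog3_6
  have i7 := runChk_next i6 ok_prog3_7
  have i8 := runChk_next i7 ok_prog3_8
  have i9 := runChk_next i8 ok_prog3_9
  have i10 := runChk_next i9 ok_prog3_10
  have i11 := runChk_next i10 ok_prog3_11
  have i12 := runChk_next i11 ok_prog3_12
  have i13 := runChk_next i12 ok_prog3_13
  have i14 := runChk_next i13 ok_prog3_14
  have i15 := runChk_next i14 ok_prog3_15
  have i16 := runChk_next i15 ok_prog3_16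
  have i17 := runChk_next i16 ok_prog3_17
  have i18 := runChk_next i17 ok_prog3_18
  have i19 := runChk_next i18 ok_prog3_19
  have i20 := runChk_next i19 ok_prog3_20
  have i21 := runChk_next i20 ok_prog3_21
  have i22 := runChk_next i21 ok_prog3_22
  have i23 := runChk_next i22 ok_prog3_23
  have i24 := runChk_next i23 ok_prog3_24
  have i25 := runChk_next i24 ok_prog3_25
  have i26 := runChk_next i25 ok_prog3_26
  have i27 := runChk_next i26 ok_prog3_27
  have i28 := runChk_next i27 ok_prog3_28
  have i29 := runChk_next i28 ok_prog3_29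
  have i30 := runChk_next i29 ok_prog3_30
  have i31 := runChk_next i30 ok_prog3_31
  have i32 := runChk_next i31 ok_prog3_32
  have i33 := runChk_next i32 ok_prog3_33
  have i34 := runChk_next i33 ok_prog3_34
  have i35 := runChk_next i34 ok_prog3_35
  have i36 := runChk_next i35 ok_prog3_36
  have hi : ∀ j < 10, InImage (ps3 j) := by
    intro j hj
    interval_cases j <;> exact i36 _ (by simp [outs3_36, ps3])
  obtain ⟨g, hg, hr⟩ := exists_gens hi
  have hq : Nat.Prime 3 := by norm_num
  refine dvd_card_th (k := 10) hr ?_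
  refine chain_step hq (fun j hj => hg j (by omega)) okVecs3_9 okPow3_9 okConj3_9 ?_
  refine chain_step hq (fun j hj => hg j (by omega)) okVecs3_8 okPow3_8 okConj3_8 ?_
  refine chain_step hq (fun j hj => hg j (by omega)) okVecs3_7 okPow3_7 okConj3_7 ?_
  refine chain_step hq (fun j hj => hg j (by omega)) okVecs3_6 okPow3_6 okConj3_6 ?_
  refine chain_step hq (fun j hj => hg j (by omega)) okVecs3_5 okPow3_5 okConj3_5 ?_
  refine chain_step hq (fun j hj => hg j (by omega)) okVecs3_4 okPow3_4 okConj3_4 ?_
  refine chain_step hq (fun j hj => hg j (by omega)) okVecs3_3 okPow3_3 okConj3_3 ?_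
  refine chain_step hq (fun j hj => hg j (by omega)) okVecs3_2 okPow3_2 okConj3_2 ?_
  refine chain_step hq (fun j hj => hg j (by omega)) okVecs3_1 okPow3_1 okConj3_1 ?_
  refine chain_step hq (fun j hj => hg j (by omega)) okVecs3_0 okPow3_0 okConj3_0 ?_
  exact chain_start g 3

end CfsgLib.Spor.ThRep
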