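import Cfsg.Agent.Lib.Spor.ThRep.ChainData5

/-!
Steps of the 5-chain.
-/

set_option autoImplicit false
set_option Elab.async false
set_option maxRecDepth 100000

namespace CfsgLib.Spor.ThRep

theorem okVecs5_0 : okVecs 0 ps5 v5_0 vs5_0 = true := by decide +kernel

theorem okPow5_0 : okPow 5 0 ps5 pw5_0 = true := by decide +kernel

theorem okConj5_0 : okConj 0 ps5 cj5_0 = true := by decide +kernel

theorem okVecs5_1 : okVecs 1 ps5 v5_1 vs5_1 = true := by decide +kernel

theorem okPow5_1 : okPow 5 1 ps5 pw5_1 = true := by decide +kernel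

theorem okConj5_1 : okConj 1 ps5 cj5_1 = true := by decide +kernel

theorem okVecs5_2 : okVecs 2 ps5 v5_2 vs5_2 = true := by decide +kernel

theorem okPow5_2 : okPow 5 2 ps5 pw5_2 = true := by decide +kernel

theorem okConj5_2 : okConj 2 ps5 cj5_2 = true := by decide +kernel

end CfsgLib.Spor.ThRep
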