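import Cfsg.Agent.Lib.Spor.ThRep.Chain5Image
import Cfsg.Agent.Lib.Spor.ThRep.Chain5Step0

/-!
The order of the Thompson group is divisible by `5 ^ 3`.
-/

set_option autoImplicit false
set_option Elab.async false
set_option maxRecDepth 100000

namespace CfsgLib.Spor.ThRep

theorem dvd5 : 5 ^ 3 ∣ Nat.card Cfsg.Spor.Th := by
  have i0 := runChk_next (by simp) ok_prog5_0
  have i1 := runChk_next i0 ok_prog5_1
  have i2 := runChk_next i1 ok_prog5_2
  have i3 := runChk_next i2 ok_prog5_3
  have i4 := runChk_next i3 ok_prog5_4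
  have i5 := runChk_next i4 ok_prog5_5
  have i6 := runChk_next i5 ok_prog5_6
  have i7 := runChk_next i6 ok_prog5_7
  have i8 := runChk_next i7 ok_prog5_8
  have i9 := runChk_next i8 ok_prog5_9
  have i10 := runChk_next i9 ok_prog5_10
  have i11 := runChk_next i10 ok_prog5_11
  have i12 := runChk_next i11 ok_prog5_12
  have i13 := runChk_next i12 ok_prog5_13
  have i14 := runChk_next i13 ok_prog5_14
  have i15 := runChk_next i14 ok_prog5_15
  have i16 := runChk_next i15 ok_prog5_16
  have i17 := runChk_next i16 ok_prog5_17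
  have i18 := runChk_next i17 ok_prog5_18
  have i19 := runChk_next i18 ok_prog5_19
  have i20 := runChk_next i19 ok_prog5_20
  have i21 := runChk_next i20 ok_prog5_21
  have i22 := runChk_next i21 ok_prog5_22
  have i23 := runChk_next i22 ok_prog5_23
  have i24 := runChk_next i23 ok_prog5_24
  have i25 := runChk_next i24 ok_prog5_25
  have i26 := runChk_next i25 ok_prog5_26
  have i27 := runChk_next i26 ok_prog5_27
  have i28 := runChk_next i27 ok_prog5_28
  have i29 := runChk_next i28 ok_prog5_29
  have i30 := runChk_next i29 ok_prog5_30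
  have hi : ∀ j < 3, InImage (ps5 j) := by
    intro j hj
    interval_cases j <;> exact i30 _ (by simp [outs5_30, ps5])
  obtain ⟨g, hg, hr⟩ := exists_gens hi
  have hq : Nat.Prime 5 := by norm_num
  refine dvd_card_th (k := 3) hr ?_
  refine chain_step hq (fun j hj => hg j (by omega)) okVecs5_2 okPow5_2 okConj5_2 ?_
  refine chain_step hq (fun j hj => hg j (by omega)) okVecs5_1 okPow5_1 okConj5_1 ?_
  refine chain_step hq (fun j hj => hg j (by omega)) okVecs5_0 okPow5_0 okConj5_0 ?_
  exact chain_start g 5

end CfsgLib.Spor.ThRep
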