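import Cfsg.Agent.Lib.Spor.ThRep.Dvd2
import Cfsg.Agent.Lib.Spor.ThRep.Dvd3
import Cfsg.Agent.Lib.Spor.ThRep.Dvd5
import Cfsg.Agent.Lib.Spor.ThRep.Dvd19
import Cfsg.Agent.Lib.Spor.ThRep.Dvd31
import Cfsg.Agent.Lib.ThCent.DSide

/-!
The order of the presented Thompson group is divisible by the order of the Thompson group.
-/

set_option autoImplicit false

namespace CfsgLib.Spor.ThRep

/-- the Thompson group as presented has order divisible by 90745943887872000 -/
theorem th_card_dvd : 90745943887872000 ∣ Nat.card Cfsg.Spor.Th := by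
  have h7 : 7 ^ 2 * 13 ∣ Nat.card Cfsg.Spor.Th := by
    have h := Subgroup.card_subgroup_dvd_card CfsgLib.ThCent.dSub
    rw [CfsgLib.ThCent.card_dSub inferInstance] at h
    exact dvd_trans (by norm_num) h
  have e : 90745943887872000 = 2 ^ 15 * 3 ^ 10 * 5 ^ 3 * (19 ^ 1) * (31 ^ 1) * (7 ^ 2 * 13) := by
    norm_num
  rw [e]
  refine Nat.Coprime.mul_dvd_of_dvd_of_dvd (by norm_num) ?_ h7
  refine Nat.Coprime.mul_dvd_of_dvd_of_dvd (by norm_num) ?_ dvd31
  refine Nat.Coprime.mul_dvd_of_dvd_of_dvd (by norm_num) ?_ dvd19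
  refine Nat.Coprime.mul_dvd_of_dvd_of_dvd (by norm_num) ?_ dvd5
  exact Nat.Coprime.mul_dvd_of_dvd_of_dvd (by norm_num) dvd2 dvd3

end CfsgLib.Spor.ThRep
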