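import Cfsg.Agent.Lib.Spor.ThRep.Hom
import Cfsg.Agent.Lib.Spor.ThRep.Dense

/-!
Chains of subgroups of prime power order in the image of the Thompson group, from certificates: the
powers and conjugates of each element are products of earlier elements, and a set of vectors is
stable under the earlier elements but not under the new one. The elements are given by programs of
words and products.
-/

set_option autoImplicit false
set_option maxRecDepth 100000

namespace CfsgLib.Spor.ThRep

open Matrix

/-- the group of invertible matrices -/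
abbrev GTh : Type := GL (Fin 248) (ZMod 3)

/-- a packed matrix stands for an element of the image -/
def InImage (P : ℕ × ℕ) : Prop := ∃ g : Cfsg.Spor.Th, IsVal (rep g) P

/-- an instruction: the value of a word, or the product of two earlier values -/
inductive Ins where
  | word (l : List ℕ)
  | prod (a b : ℕ)

section

attribute [local irreducible] mulT evalD eqT oneT

/-- run a program and compare some of the values -/
noncomputable def runChk (e : ℕ × ℕ) (outs : List (ℕ × (ℕ × ℕ))) : List Ins → List (ℕ × ℕ) → Bool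
  | [], env => outs.all fun o => eqT (env.getD o.1 e) o.2
  | .word l :: r, env => (l.all fun x => Nat.blt x 11) &&
      forceP (evalD l (oneT 248)) fun P => runChk e outs r (P :: env)
  | .prod a b :: r, env =>
      forceP (mulT 248 248 (env.getD a e) (env.getD b e)) fun P =>
        runChk e outs r (P :: env)

end

theorem inImage_one : InImage (oneT 248) := ⟨1, by rw [map_one]; exact isVal_one⟩

theorem inImage_getD {e : ℕ × ℕ} (he0 : InImage e) {env : List (ℕ × ℕ)} (h : ∀ P ∈ env, InImage P) (a : ℕ) :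
    InImage (env.getD a e) := by
  rw [List.getD_eq_getElem?_getD]
  by_cases ha : a < env.length
  · rw [List.getElem?_eq_getElem ha]
    exact h _ (List.getElem_mem ha)
  · rw [List.getElem?_eq_none (not_lt.1 ha)]
    exact he0

theorem runChk_spec {e : ℕ × ℕ} (he0 : InImage e) (outs : List (ℕ × (ℕ × ℕ))) (prog : List Ins) :
    ∀ env : List (ℕ × ℕ), (∀ P ∈ env, InImage P) → runChk e outs prog env = true →
      ∀ o ∈ outs, InImage o.2 := by
  induction prog with
  | nil =>
    intro env he h o ho
    rw [runChk] at h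
    rw [← eq_of_eqT (List.all_eq_true.1 h o ho)]
    exact inImage_getD he0 he o.1
  | cons x r ih =>
    intro env he h
    cases x with
    | word l =>
      rw [runChk, forceP_eq] at h
      obtain ⟨h1, h2⟩ := Bool.and_eq_true_iff.1 h
      refine ih _ (fun P hP => ?_) h2
      rcases List.mem_cons.1 hP with hP | hP
      · rw [hP]
        refine ⟨CfsgLib.Spor.Th.tev l, ?_⟩
        rw [rep_tev l fun x hx => by simpa using List.all_eq_true.1 h1 x hx]
        exact isVal_wordD l h1
      · exact he P hP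
    | prod a b =>
      rw [runChk, forceP_eq] at h
      refine ih _ (fun P hP => ?_) h
      rcases List.mem_cons.1 hP with hP | hP
      · rw [hP]
        obtain ⟨g, hg⟩ := inImage_getD he0 he a
        obtain ⟨k, hk⟩ := inImage_getD he0 he b
        exact ⟨g * k, by rw [map_mul]; exact hg.mul hk⟩
      · exact he P hP

/-- the values kept after one part of a program serve as the start of the next part -/
theorem runChk_next {outs : List (ℕ × (ℕ × ℕ))} {prog : List Ins} {env : List (ℕ × ℕ)}
    (he : ∀ P ∈ env, InImage P) (h : runChk (oneT 248) outs prog env = true) :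
    ∀ P ∈ outs.map Prod.snd, InImage P := by
  intro P hP
  obtain ⟨o, ho, rfl⟩ := List.mem_map.1 hP
  exact runChk_spec inImage_one outs prog env he h o ho

section

attribute [local irreducible] mulT oneT

/-- a packed matrix times some of the listed matrices -/
noncomputable def prodL (ps : ℕ → ℕ × ℕ) : List ℕ → ℕ × ℕ → ℕ × ℕ
  | [], A => A
  | x :: l, A => forceP A fun A => prodL ps l (mulT 248 248 A (ps x))

/-- a packed matrix times a power of another -/
noncomputable def powL (P : ℕ × ℕ) : ℕ → ℕ × ℕ → ℕ × ℕ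
  | 0, A => A
  | k + 1, A => forceP A fun A => powL P k (mulT 248 248 A P)

end

/-- a well formed packed vector -/
def okV (v : ℕ × ℕ) : Bool := okT v && Nat.blt v.1 (2 ^ 248) && Nat.blt v.2 (2 ^ 248)

theorem okV_ext {u v : ℕ × ℕ} (hu : okV u = true) (hv : okV v = true)
    (h : toT 1 248 u = toT 1 248 v) : u = v := by
  simp only [okV, Bool.and_eq_true, Nat.blt_eq] at hu hv
  have key : ∀ a b c d : Bool, ¬(a = true ∧ b = true) → ¬(c = true ∧ d = true) →
      tz a b = tz c d → a = c ∧ b = d := by decide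
  have hb : ∀ p < 248, u.1.testBit p = v.1.testBit p ∧ u.2.testBit p = v.2.testBit p := fun p hp => by
    refine key _ _ _ _ (ok_of_okT (m := 1) (n := 248) hu.1.1 p (by omega)) (ok_of_okT (m := 1) (n := 248) hv.1.1 p (by omega)) ?_
    have := congrFun (congrFun h 0) ⟨p, hp⟩
    simpa [toT] using this
  have out : ∀ x, x < 2 ^ 248 → ∀ p, ¬ p < 248 → x.testBit p = false := fun x hx p hp =>
    Nat.testBit_lt_two_pow (lt_of_lt_of_le hx (Nat.pow_le_pow_right (by norm_num) (by omega)))
  refine Prod.ext (Nat.eq_of_testBit_eq fun p => ?_) (Nat.eq_of_testBit_eq fun p => ?_)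
  · by_cases hp : p < 248
    · exact (hb p hp).1
    · rw [out _ hu.1.2 p hp, out _ hv.1.2 p hp]
  · by_cases hp : p < 248
    · exact (hb p hp).2
    · rw [out _ hu.2 p hp, out _ hv.2 p hp]

/-- membership in a list of vectors -/
def memV (v : ℕ × ℕ) (S : List (ℕ × ℕ)) : Bool := S.any (eqT v)

theorem memV_spec {v : ℕ × ℕ} {S : List (ℕ × ℕ)} (h : memV v S = true) : v ∈ S := by
  obtain ⟨u, hu, e⟩ := List.any_eq_true.1 h
  rwa [eq_of_eqT e]

/-- the vectors are stable under the first `i` matrices but not under the matrix `i` -/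
noncomputable def okVecs (i : ℕ) (ps : ℕ → ℕ × ℕ) (V : ℕ × ℕ) (S : List (ℕ × ℕ)) : Bool :=
  okV V && S.all okV && memV V S &&
    ((List.range i).all fun j => S.all fun u => forceP (mulT 1 248 u (ps j)) fun w => memV w S) &&
    forceP (mulT 1 248 V (ps i)) fun w => okV w && !memV w S

/-- the power of element `i` and one conjugate are products of earlier elements -/
noncomputable def okPow (q i : ℕ) (ps : ℕ → ℕ × ℕ) (pw : List ℕ) : Bool :=
  pw.all (fun x => Nat.blt x i) && eqT (powL (ps i) q (oneT 248)) (prodL ps pw (oneT 248))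

/-- the conjugates of the earlier elements by element `i` -/
noncomputable def okConj (i : ℕ) (ps : ℕ → ℕ × ℕ) (cj : List (List ℕ)) : Bool :=
  (List.range i).all fun j => ((cj.getD j []).all fun x => Nat.blt x i) &&
    eqT (mulT 248 248 (ps j) (ps i)) (prodL ps (cj.getD j []) (ps i))

variable (ps : ℕ → ℕ × ℕ)

theorem isVal_prodL {g : ℕ → GTh} {i : ℕ} (hP : ∀ j < i, IsVal (g j) (ps j)) :
    ∀ (l : List ℕ) {a : GTh} {A : ℕ × ℕ}, IsVal a A → (∀ x ∈ l, x < i) →
      IsVal (a * (l.map g).prod) (prodL ps l A)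
  | [], a, A, hA, _ => by simpa [prodL] using hA
  | x :: l, a, A, hA, h => by
    rw [List.map_cons, List.prod_cons, ← mul_assoc, prodL, forceP_eq]
    exact isVal_prodL hP l (hA.mul (hP x (h x (List.mem_cons_self ..))))
      fun y hy => h y (List.mem_cons_of_mem _ hy)

theorem isVal_powL {g : GTh} {P : ℕ × ℕ} (hg : IsVal g P) :
    ∀ (k : ℕ) {a : GTh} {A : ℕ × ℕ}, IsVal a A → IsVal (a * g ^ k) (powL P k A)
  | 0, a, A, hA => by simpa [powL] using hA
  | k + 1, a, A, hA => by
    rw [pow_succ', ← mul_assoc, powL, forceP_eq]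
    exact isVal_powL hg k (hA.mul hg)

/-- the subgroup generated by the first `i` elements -/
def chainSub (g : ℕ → GTh) (i : ℕ) : Subgroup GTh := Subgroup.closure (g '' Set.Iio i)

theorem prod_mem_chainSub (g : ℕ → GTh) {i : ℕ} (l : List ℕ) (h : ∀ x ∈ l, x < i) :
    (l.map g).prod ∈ chainSub g i :=
  Subgroup.list_prod_mem _ fun y hy => by
    obtain ⟨x, hx, rfl⟩ := List.mem_map.1 hy
    exact Subgroup.subset_closure ⟨x, h x hx, rfl⟩

theorem mem_normalizer_of_conjs {Γ : Type*} [Group Γ] [Finite Γ] {s : Set Γ} {x : Γ}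
    (h : ∀ y ∈ s, x⁻¹ * y * x ∈ Subgroup.closure s) :
    x ∈ Subgroup.normalizer (Subgroup.closure s : Set Γ) := by
  set H := Subgroup.closure s
  have hle : H.map (MulAut.conj x⁻¹).toMonoidHom ≤ H := by
    rw [MonoidHom.map_closure, Subgroup.closure_le]
    rintro _ ⟨y, hy, rfl⟩
    simpa using h y hy
  have he : H.map (MulAut.conj x⁻¹).toMonoidHom = H :=
    Subgroup.eq_of_le_of_card_ge hle
      (le_of_eq (Subgroup.card_map_of_injective (MulEquiv.injective _)).symm)
  rw [← inv_mem_iff (H := Subgroup.normalizer (H : Set Γ)),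
    Subgroup.mem_normalizer_iff_map_conj_eq]
  exact he

/-- an element of prime order modulo a subgroup which it normalises multiplies the order -/
theorem exists_card_prime_mul {Γ : Type*} [Group Γ] [Finite Γ] {q : ℕ} (hq : q.Prime) {H : Subgroup Γ}
    {x : Γ} (hn : x ∈ Subgroup.normalizer (H : Set Γ)) (hx : x ∉ H) (hxq : x ^ q ∈ H) :
    ∃ K : Subgroup Γ, H ≤ K ∧ x ∈ K ∧ Nat.card K = q * Nat.card H := by
  have := Fact.mk hq
  let N := Subgroup.normalizer (H : Set Γ)
  let f := QuotientGroup.mk' (H.subgroupOf N)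
  let xN : N := ⟨x, hn⟩
  have ho : orderOf (f xN) = q := by
    refine orderOf_eq_prime ?_ ?_
    · rw [← map_pow, QuotientGroup.mk'_apply, QuotientGroup.eq_one_iff, Subgroup.mem_subgroupOf]
      exact hxq
    · rw [QuotientGroup.mk'_apply, ne_eq, QuotientGroup.eq_one_iff, Subgroup.mem_subgroupOf]
      exact hx
  let Z := Subgroup.zpowers (f xN)
  have hc : Nat.card (Z.comap f) = q * Nat.card H := by
    have h1 := Subgroup.card_mul_index (Z.comap f)
    rw [Subgroup.index_comap_of_surjective _ (QuotientGroup.mk'_surjective _),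
      Subgroup.card_eq_card_quotient_mul_card_subgroup (H.subgroupOf N), ← Z.card_mul_index,
      Nat.card_zpowers, ho,
      Nat.card_congr (Subgroup.subgroupOfEquivOfLe (Subgroup.le_normalizer : H ≤ N)).toEquiv] at h1
    refine Nat.eq_of_mul_eq_mul_right (Nat.pos_of_ne_zero Z.index_ne_zero_of_finite) ?_
    rw [h1]; ring
  refine ⟨(Z.comap f).map N.subtype, fun y hy => ?_, ⟨xN, ?_, rfl⟩, ?_⟩
  · refine ⟨⟨y, Subgroup.le_normalizer hy⟩, ?_, rfl⟩
    show f _ ∈ Z
    rw [show f ⟨y, Subgroup.le_normalizer hy⟩ = 1 from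
      (QuotientGroup.eq_one_iff _).2 (Subgroup.mem_subgroupOf.2 hy)]
    exact Z.one_mem
  · exact Subgroup.mem_zpowers _
  · rw [Subgroup.card_map_of_injective N.subtype_injective, hc]

variable {ps}

theorem chain_step {g : ℕ → GTh} {q i : ℕ} (hq : q.Prime) (hP : ∀ j ≤ i, IsVal (g j) (ps j))
    {V : ℕ × ℕ} {S : List (ℕ × ℕ)} {pw : List ℕ} {cj : List (List ℕ)}
    (hv : okVecs i ps V S = true) (hp : okPow q i ps pw = true) (hj : okConj i ps cj = true)
    (hc : q ^ i ∣ Nat.card (chainSub g i)) : q ^ (i + 1) ∣ Nat.card (chainSub g (i + 1)) := by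
  simp only [okVecs, okPow, okConj, forceP_eq, Bool.and_eq_true, Bool.not_eq_true', List.all_eq_true,
    List.mem_range, Nat.blt_eq] at hv hp hj
  obtain ⟨⟨⟨⟨hV, hS⟩, hVS⟩, hcl⟩, hw, hout⟩ := hv
  have hxi := hP i le_rfl
  have hlt : ∀ j < i, IsVal (g j) (ps j) := fun j hj' => hP j (le_of_lt hj')
  have hokS : ∀ u ∈ S, Ok 1 248 u := fun u hu =>
    ok_of_okT (by
      have := hS u hu
      simp only [okV, Bool.and_eq_true] at this
      exact this.1.1)
  have hx : g i ∉ chainSub g i := by
    intro hmem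
    rw [← Subgroup.mem_toSubmonoid, chainSub, Subgroup.closure_toSubmonoid_of_finite] at hmem
    have key : ∀ a, a ∈ Submonoid.closure (g '' Set.Iio i) →
        ∀ u ∈ S, ∃ w ∈ S, toT 1 248 w = toT 1 248 u * (a : GTh).1 := by
      intro a ha
      induction ha using Submonoid.closure_induction with
      | mem y hy =>
        obtain ⟨j, hj', rfl⟩ := hy
        intro u hu
        refine ⟨_, memV_spec (hcl j hj' u hu), ?_⟩
        rw [(hlt j hj').2, toT_mulT (hokS u hu) (hlt j hj').1]
      | one => exact fun u hu => ⟨u, hu, by rw [Units.val_one, Matrix.mul_one]⟩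
      | mul y z _ _ iy iz =>
        intro u hu
        obtain ⟨w, hw', ew⟩ := iy u hu
        obtain ⟨w', hw'', ew'⟩ := iz w hw'
        exact ⟨w', hw'', by rw [ew', ew, Matrix.mul_assoc, Units.val_mul]⟩
    obtain ⟨w, hwS, ew⟩ := key _ hmem V (memV_spec hVS)
    rw [hxi.2, ← toT_mulT (hokS V (memV_spec hVS)) hxi.1] at ew
    have e := okV_ext (hS w hwS) hw ew
    rw [← e] at hout
    have : memV w S = true := List.any_eq_true.2 ⟨w, hwS, by simp [eqT]⟩
    rw [this] at hout
    exact Bool.noConfusion hout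
  have hxq : g i ^ q ∈ chainSub g i := by
    have e := (isVal_powL hxi q isVal_one).eq (isVal_prodL ps hlt pw isVal_one hp.1) hp.2
    rw [one_mul, one_mul] at e
    rw [e]
    exact prod_mem_chainSub g pw hp.1
  have hn : g i ∈ Subgroup.normalizer (chainSub g i : Set GTh) := by
    refine mem_normalizer_of_conjs ?_
    rintro _ ⟨j, hj', rfl⟩
    obtain ⟨hl, he⟩ := hj j hj'
    have e := ((hlt j hj').mul hxi).eq (isVal_prodL ps hlt _ hxi hl) he
    rw [mul_assoc, e, inv_mul_cancel_left]
    exact prod_mem_chainSub g _ hl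
  obtain ⟨K, hK, hxK, hcK⟩ := exists_card_prime_mul hq hn hx hxq
  have hmono : chainSub g i ≤ chainSub g (i + 1) :=
    Subgroup.closure_mono (Set.image_mono (Set.Iio_subset_Iio (Nat.le_succ i)))
  have hle : chainSub g (i + 1) ≤ K := by
    rw [chainSub, Subgroup.closure_le]
    rintro _ ⟨j, hj', rfl⟩
    rcases Nat.lt_succ_iff_lt_or_eq.1 hj' with hj' | rfl
    · exact hK (Subgroup.subset_closure ⟨j, hj', rfl⟩)
    · exact hxK
  obtain ⟨a, ha⟩ := Subgroup.card_dvd_of_le hmono
  obtain ⟨b, hb⟩ := Subgroup.card_dvd_of_le hle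
  rw [hcK, ha, mul_assoc, mul_comm q, Nat.mul_left_cancel_iff Nat.card_pos] at hb
  rcases hq.eq_one_or_self_of_dvd a ⟨b, hb⟩ with rfl | rfl
  · exact absurd (Subgroup.eq_of_le_of_card_ge hmono (by omega) ▸
      Subgroup.subset_closure ⟨i, Nat.lt_succ_self i, rfl⟩) hx
  · rw [ha, pow_succ]
    exact Nat.mul_dvd_mul_right hc _

theorem chain_start (g : ℕ → GTh) (q : ℕ) : q ^ 0 ∣ Nat.card (chainSub g 0) := by simp

/-- the elements of the group behind the packed matrices of a chain -/
theorem exists_gens {k : ℕ} (h : ∀ j < k, InImage (ps j)) :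
    ∃ g : ℕ → GTh, (∀ j < k, IsVal (g j) (ps j)) ∧ ∀ j, g j ∈ rep.range := by
  classical
  refine ⟨fun j => if hj : j < k then rep (h j hj).choose else 1, fun j hj => ?_, fun j => ?_⟩
  · simp only [dif_pos hj]
    exact (h j hj).choose_spec
  · dsimp only
    split
    · exact ⟨_, rfl⟩
    · exact one_mem _

theorem dvd_card_th {g : ℕ → GTh} {N k : ℕ} (hr : ∀ j, g j ∈ rep.range)
    (hc : N ∣ Nat.card (chainSub g k)) : N ∣ Nat.card Cfsg.Spor.Th := by
  refine dvd_trans (dvd_trans hc (Subgroup.card_dvd_of_le (?_ : chainSub g k ≤ rep.range)))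
    (Subgroup.card_range_dvd rep)
  rw [chainSub, Subgroup.closure_le]
  rintro _ ⟨j, -, rfl⟩
  exact hr j

end CfsgLib.Spor.ThRep
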