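import Cfsg.Agent.Lib.Spor.ThRep.ChainData19

/-!
The elements of the 19-chain lie in the image.
-/

set_option autoImplicit false
set_option Elab.async false
set_option maxRecDepth 100000

namespace CfsgLib.Spor.ThRep

theorem ok_prog19_0 : runChk (oneT 248) outs19_0 prog19_0 [] = true := by decide +kernel

end CfsgLib.Spor.ThRep
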