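import Cfsg.Agent.Lib.Spor.ThRep.ChainData2

/-!
The elements of the 2-chain lie in the image.
-/

set_option autoImplicit false
set_option Elab.async false
set_option maxRecDepth 100000

namespace CfsgLib.Spor.ThRep

theorem ok_prog2_0 : runChk (oneT 248) outs2_0 prog2_0 [] = true := by decide +kernel

theorem ok_prog2_1 : runChk (oneT 248) outs2_1 prog2_1 (outs2_0.map Prod.snd) = true := by decide +kernel

theorem ok_prog2_2 : runChk (oneT 248) outs2_2 prog2_2 (outs2_1.map Prod.snd) = true := by decide +kernel

theorem ok_prog2_3 : runChk (oneT 248) outs2_3 prog2_3 (outs2_2.map Prod.snd) = true := by decide +kernel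

theorem ok_prog2_4 : runChk (oneT 248) outs2_4 prog2_4 (outs2_3.map Prod.snd) = true := by decide +kernel

theorem ok_prog2_5 : runChk (oneT 248) outs2_5 prog2_5 (outs2_4.map Prod.snd) = true := by decide +kernel

theorem ok_prog2_6 : runChk (oneT 248) outs2_6 prog2_6 (outs2_5.map Prod.snd) = true := by decide +kernel

end CfsgLib.Spor.ThRep
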