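import Cfsg.Agent.Lib.Spor.ThRep.ChainData2

/-!
Steps of the 2-chain.
-/

set_option autoImplicit false
set_option Elab.async false
set_option maxRecDepth 100000

namespace CfsgLib.Spor.ThRep

theorem okVecs2_0 : okVecs 0 ps2 v2_0 vs2_0 = true := by decide +kernel

theorem okPow2_0 : okPow 2 0 ps2 pw2_0 = true := by decide +kernel

theorem okConj2_0 : okConj 0 ps2 cj2_0 = true := by decide +kernel

theorem okVecs2_1 : okVecs 1 ps2 v2_1 vs2_1 = true := by decide +kernel

theorem okPow2_1 : okPow 2 1 ps2 pw2_1 = true := by decide +kernel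

theorem okConj2_1 : okConj 1 ps2 cj2_1 = true := by decide +kernel

theorem okVecs2_2 : okVecs 2 ps2 v2_2 vs2_2 = true := by decide +kernel

theorem okPow2_2 : okPow 2 2 ps2 pw2_2 = true := by decide +kernel

theorem okConj2_2 : okConj 2 ps2 cj2_2 = true := by decide +kernel

theorem okVecs2_3 : okVecs 3 ps2 v2_3 vs2_3 = true := by decide +kernel

theorem okPow2_3 : okPow 2 3 ps2 pw2_3 = true := by decide +kernel

theorem okConj2_3 : okConj 3 ps2 cj2_3 = true := by decide +kernel

theorem okVecs2_4 : okVecs 4 ps2 v2_4 vs2_4 = true := by decide +kernel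

theorem okPow2_4 : okPow 2 4 ps2 pw2_4 = true := by decide +kernel

theorem okConj2_4 : okConj 4 ps2 cj2_4 = true := by decide +kernel

theorem okVecs2_5 : okVecs 5 ps2 v2_5 vs2_5 = true := by decide +kernel

theorem okPow2_5 : okPow 2 5 ps2 pw2_5 = true := by decide +kernel

theorem okConj2_5 : okConj 5 ps2 cj2_5 = true := by decide +kernel

theorem okVecs2_6 : okVecs 6 ps2 v2_6 vs2_6 = true := by decide +kernel

theorem okPow2_6 : okPow 2 6 ps2 pw2_6 = true := by decide +kernel

theorem okConj2_6 : okConj 6 ps2 cj2_6 = true := by decide +kernel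

theorem okVecs2_7 : okVecs 7 ps2 v2_7 vs2_7 = true := by decide +kernel

theorem okPow2_7 : okPow 2 7 ps2 pw2_7 = true := by decide +kernel

theorem okConj2_7 : okConj 7 ps2 cj2_7 = true := by decide +kernel

theorem okVecs2_8 : okVecs 8 ps2 v2_8 vs2_8 = true := by decide +kernel

theorem okPow2_8 : okPow 2 8 ps2 pw2_8 = true := by decide +kernel

theorem okConj2_8 : okConj 8 ps2 cj2_8 = true := by decide +kernel

theorem okVecs2_9 : okVecs 9 ps2 v2_9 vs2_9 = true := by decide +kernel

theorem okPow2_9 : okPow 2 9 ps2 pw2_9 = true := by decide +kernel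

theorem okConj2_9 : okConj 9 ps2 cj2_9 = true := by decide +kernel

end CfsgLib.Spor.ThRep
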