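import Cfsg.Agent.Lib.Spor.ThRep.ChainData2

/-!
Steps of the 2-chain.
-/

set_option autoImplicit false
set_option Elab.async false
set_option maxRecDepth 100000

namespace CfsgLib.Spor.ThRep

theorem okVecs2_10 : okVecs 10 ps2 v2_10 vs2_10 = true := by decide +kernel

theorem okPow2_10 : okPow 2 10 ps2 pw2_10 = true := by decide +kernel

theorem okConj2_10 : okConj 10 ps2 cj2_10 = true := by decide +kernel

theorem okVecs2_11 : okVecs 11 ps2 v2_11 vs2_11 = true := by decide +kernel

theorem okPow2_11 : okPow 2 11 ps2 pw2_11 = true := by decide +kernel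

theorem okConj2_11 : okConj 11 ps2 cj2_11 = true := by decide +kernel

theorem okVecs2_12 : okVecs 12 ps2 v2_12 vs2_12 = true := by decide +kernel

theorem okPow2_12 : okPow 2 12 ps2 pw2_12 = true := by decide +kernel

theorem okConj2_12 : okConj 12 ps2 cj2_12 = true := by decide +kernel

end CfsgLib.Spor.ThRep
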