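import Cfsg.Agent.Lib.Spor.ThRep.ChainData2

/-!
Steps of the 2-chain.
-/

set_option autoImplicit false
set_option Elab.async false
set_option maxRecDepth 100000

namespace CfsgLib.Spor.ThRep

theorem okVecs2_13 : okVecs 13 ps2 v2_13 vs2_13 = true := by decide +kernel

theorem okPow2_13 : okPow 2 13 ps2 pw2_13 = true := by decide +kernel

theorem okConj2_13 : okConj 13 ps2 cj2_13 = true := by decide +kernel

theorem okVecs2_14 : okVecs 14 ps2 v2_14 vs2_14 = true := by decide +kernel

theorem okPow2_14 : okPow 2 14 ps2 pw2_14 = true := by decide +kernel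

theorem okConj2_14 : okConj 14 ps2 cj2_14 = true := by decide +kernel

end CfsgLib.Spor.ThRep
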