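import Cfsg.Agent.Lib.Spor.ThRep.ChainData3

/-!
The elements of the 3-chain lie in the image.
-/

set_option autoImplicit false
set_option Elab.async false
set_option maxRecDepth 100000

namespace CfsgLib.Spor.ThRep

theorem ok_prog3_0 : runChk (oneT 248) outs3_0 prog3_0 [] = true := by decide +kernel

theorem ok_prog3_1 : runChk (oneT 248) outs3_1 prog3_1 (outs3_0.map Prod.snd) = true := by decide +kernel

theorem ok_prog3_2 : runChk (oneT 248) outs3_2 prog3_2 (outs3_1.map Prod.snd) = true := by decide +kernel

theorem ok_prog3_3 : runChk (oneT 248) outs3_3 prog3_3 (outs3_2.map Prod.snd) = true := by decide +kernel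

theorem ok_prog3_4 : runChk (oneT 248) outs3_4 prog3_4 (outs3_3.map Prod.snd) = true := by decide +kernel

theorem ok_prog3_5 : runChk (oneT 248) outs3_5 prog3_5 (outs3_4.map Prod.snd) = true := by decide +kernel

theorem ok_prog3_6 : runChk (oneT 248) outs3_6 prog3_6 (outs3_5.map Prod.snd) = true := by decide +kernel

theorem ok_prog3_7 : runChk (oneT 248) outs3_7 prog3_7 (outs3_6.map Prod.snd) = true := by decide +kernel

theorem ok_prog3_8 : runChk (oneT 248) outs3_8 prog3_8 (outs3_7.map Prod.snd) = true := by decide +kernel

theorem ok_prog3_9 : runChk (oneT 248) outs3_9 prog3_9 (outs3_8.map Prod.snd) = true := by decide +kernel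

theorem ok_prog3_10 : runChk (oneT 248) outs3_10 prog3_10 (outs3_9.map Prod.snd) = true := by decide +kernel

theorem ok_prog3_11 : runChk (oneT 248) outs3_11 prog3_11 (outs3_10.map Prod.snd) = true := by decide +kernel

theorem ok_prog3_12 : runChk (oneT 248) outs3_12 prog3_12 (outs3_11.map Prod.snd) = true := by decide +kernel

theorem ok_prog3_13 : runChk (oneT 248) outs3_13 prog3_13 (outs3_12.map Prod.snd) = true := by decide +kernel

theorem ok_prog3_14 : runChk (oneT 248) outs3_14 prog3_14 (outs3_13.map Prod.snd) = true := by decide +kernel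

theorem ok_prog3_15 : runChk (oneT 248) outs3_15 prog3_15 (outs3_14.map Prod.snd) = true := by decide +kernel

theorem ok_prog3_16 : runChk (oneT 248) outs3_16 prog3_16 (outs3_15.map Prod.snd) = true := by decide +kernel

theorem ok_prog3_17 : runChk (oneT 248) outs3_17 prog3_17 (outs3_16.map Prod.snd) = true := by decide +kernel

theorem ok_prog3_18 : runChk (oneT 248) outs3_18 prog3_18 (outs3_17.map Prod.snd) = true := by decide +kernel

theorem ok_prog3_19 : runChk (oneT 248) outs3_19 prog3_19 (outs3_18.map Prod.snd) = true := by decide +kernel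

theorem ok_prog3_20 : runChk (oneT 248) outs3_20 prog3_20 (outs3_19.map Prod.snd) = true := by decide +kernel

theorem ok_prog3_21 : runChk (oneT 248) outs3_21 prog3_21 (outs3_20.map Prod.snd) = true := by decide +kernel

theorem ok_prog3_22 : runChk (oneT 248) outs3_22 prog3_22 (outs3_21.map Prod.snd) = true := by decide +kernel

theorem ok_prog3_23 : runChk (oneT 248) outs3_23 prog3_23 (outs3_22.map Prod.snd) = true := by decide +kernel

theorem ok_prog3_24 : runChk (oneT 248) outs3_24 prog3_24 (outs3_23.map Prod.snd) = true := by decide +kernel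

theorem ok_prog3_25 : runChk (oneT 248) outs3_25 prog3_25 (outs3_24.map Prod.snd) = true := by decide +kernel

theorem ok_prog3_26 : runChk (oneT 248) outs3_26 prog3_26 (outs3_25.map Prod.snd) = true := by decide +kernel

theorem ok_prog3_27 : runChk (oneT 248) outs3_27 prog3_27 (outs3_26.map Prod.snd) = true := by decide +kernel

theorem ok_prog3_28 : runChk (oneT 248) outs3_28 prog3_28 (outs3_27.map Prod.snd) = true := by decide +kernel

theorem ok_prog3_29 : runChk (oneT 248) outs3_29 prog3_29 (outs3_28.map Prod.snd) = true := by decide +kernel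

theorem ok_prog3_30 : runChk (oneT 248) outs3_30 prog3_30 (outs3_29.map Prod.snd) = true := by decide +kernel

theorem ok_prog3_31 : runChk (oneT 248) outs3_31 prog3_31 (outs3_30.map Prod.snd) = true := by decide +kernel

theorem ok_prog3_32 : runChk (oneT 248) outs3_32 prog3_32 (outs3_31.map Prod.snd) = true := by decide +kernel

theorem ok_prog3_33 : runChk (oneT 248) outs3_33 prog3_33 (outs3_32.map Prod.snd) = true := by decide +kernel

theorem ok_prog3_34 : runChk (oneT 248) outs3_34 prog3_34 (outs3_33.map Prod.snd) = true := by decide +kernel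

theorem ok_prog3_35 : runChk (oneT 248) outs3_35 prog3_35 (outs3_34.map Prod.snd) = true := by decide +kernel

theorem ok_prog3_36 : runChk (oneT 248) outs3_36 prog3_36 (outs3_35.map Prod.snd) = true := by decide +kernel

end CfsgLib.Spor.ThRep
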