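import Cfsg.Agent.Lib.Spor.ThRep.ChainData5

/-!
The elements of the 5-chain lie in the image.
-/

set_option autoImplicit false
set_option Elab.async false
set_option maxRecDepth 100000

namespace CfsgLib.Spor.ThRep

theorem ok_prog5_0 : runChk (oneT 248) outs5_0 prog5_0 [] = true := by decide +kernel

theorem ok_prog5_1 : runChk (oneT 248) outs5_1 prog5_1 (outs5_0.map Prod.snd) = true := by decide +kernel

theorem ok_prog5_2 : runChk (oneT 248) outs5_2 prog5_2 (outs5_1.map Prod.snd) = true := by decide +kernel

theorem ok_prog5_3 : runChk (oneT 248) outs5_3 prog5_3 (outs5_2.map Prod.snd) = true := by decide +kernel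

theorem ok_prog5_4 : runChk (oneT 248) outs5_4 prog5_4 (outs5_3.map Prod.snd) = true := by decide +kernel

theorem ok_prog5_5 : runChk (oneT 248) outs5_5 prog5_5 (outs5_4.map Prod.snd) = true := by decide +kernel

theorem ok_prog5_6 : runChk (oneT 248) outs5_6 prog5_6 (outs5_5.map Prod.snd) = true := by decide +kernel

theorem ok_prog5_7 : runChk (oneT 248) outs5_7 prog5_7 (outs5_6.map Prod.snd) = true := by decide +kernel

theorem ok_prog5_8 : runChk (oneT 248) outs5_8 prog5_8 (outs5_7.map Prod.snd) = true := by decide +kernel

theorem ok_prog5_9 : runChk (oneT 248) outs5_9 prog5_9 (outs5_8.map Prod.snd) = true := by decide +kernel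

theorem ok_prog5_10 : runChk (oneT 248) outs5_10 prog5_10 (outs5_9.map Prod.snd) = true := by decide +kernel

theorem ok_prog5_11 : runChk (oneT 248) outs5_11 prog5_11 (outs5_10.map Prod.snd) = true := by decide +kernel

theorem ok_prog5_12 : runChk (oneT 248) outs5_12 prog5_12 (outs5_11.map Prod.snd) = true := by decide +kernel

theorem ok_prog5_13 : runChk (oneT 248) outs5_13 prog5_13 (outs5_12.map Prod.snd) = true := by decide +kernel

theorem ok_prog5_14 : runChk (oneT 248) outs5_14 prog5_14 (outs5_13.map Prod.snd) = true := by decide +kernel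

theorem ok_prog5_15 : runChk (oneT 248) outs5_15 prog5_15 (outs5_14.map Prod.snd) = true := by decide +kernel

theorem ok_prog5_16 : runChk (oneT 248) outs5_16 prog5_16 (outs5_15.map Prod.snd) = true := by decide +kernel

theorem ok_prog5_17 : runChk (oneT 248) outs5_17 prog5_17 (outs5_16.map Prod.snd) = true := by decide +kernel

theorem ok_prog5_18 : runChk (oneT 248) outs5_18 prog5_18 (outs5_17.map Prod.snd) = true := by decide +kernel

theorem ok_prog5_19 : runChk (oneT 248) outs5_19 prog5_19 (outs5_18.map Prod.snd) = true := by decide +kernel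

theorem ok_prog5_20 : runChk (oneT 248) outs5_20 prog5_20 (outs5_19.map Prod.snd) = true := by decide +kernel

theorem ok_prog5_21 : runChk (oneT 248) outs5_21 prog5_21 (outs5_20.map Prod.snd) = true := by decide +kernel

theorem ok_prog5_22 : runChk (oneT 248) outs5_22 prog5_22 (outs5_21.map Prod.snd) = true := by decide +kernel

theorem ok_prog5_23 : runChk (oneT 248) outs5_23 prog5_23 (outs5_22.map Prod.snd) = true := by decide +kernel

theorem ok_prog5_24 : runChk (oneT 248) outs5_24 prog5_24 (outs5_23.map Prod.snd) = true := by decide +kernel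

theorem ok_prog5_25 : runChk (oneT 248) outs5_25 prog5_25 (outs5_24.map Prod.snd) = true := by decide +kernel

theorem ok_prog5_26 : runChk (oneT 248) outs5_26 prog5_26 (outs5_25.map Prod.snd) = true := by decide +kernel

theorem ok_prog5_27 : runChk (oneT 248) outs5_27 prog5_27 (outs5_26.map Prod.snd) = true := by decide +kernel

theorem ok_prog5_28 : runChk (oneT 248) outs5_28 prog5_28 (outs5_27.map Prod.snd) = true := by decide +kernel

theorem ok_prog5_29 : runChk (oneT 248) outs5_29 prog5_29 (outs5_28.map Prod.snd) = true := by decide +kernel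

theorem ok_prog5_30 : runChk (oneT 248) outs5_30 prog5_30 (outs5_29.map Prod.snd) = true := by decide +kernel

end CfsgLib.Spor.ThRep
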