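import Cfsg.Agent.Lib.Spor.ThRep.Chain2Image
import Cfsg.Agent.Lib.Spor.ThRep.Chain2Step0
import Cfsg.Agent.Lib.Spor.ThRep.Chain2Step1
import Cfsg.Agent.Lib.Spor.ThRep.Chain2Step2

/-!
The order of the Thompson group is divisible by `2 ^ 15`.
-/

set_option autoImplicit false
set_option Elab.async false
set_option maxRecDepth 100000

namespace CfsgLib.Spor.ThRep

theorem dvd2 : 2 ^ 15 ∣ Nat.card Cfsg.Spor.Th := by
  have i0 := runChk_next (by simp) ok_prog2_0
  have i1 := runChk_next i0 ok_prog2_1
  have i2 := runChk_next i1 ok_prog2_2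
  have i3 := runChk_next i2 ok_prog2_3
  have i4 := runChk_next i3 ok_prog2_4
  have i5 := runChk_next i4 ok_prog2_5
  have i6 := runChk_next i5 ok_prog2_6
  have hi : ∀ j < 15, InImage (ps2 j) := by
    intro j hj
    interval_cases j <;> exact i6 _ (by simp [outs2_6, ps2])
  obtain ⟨g, hg, hr⟩ := exists_gens hi
  have hq : Nat.Prime 2 := by norm_num
  refine dvd_card_th (k := 15) hr ?_
  refine chain_step hq (fun j hj => hg j (by omega)) okVecs2_14 okPow2_14 okConj2_14 ?_
  refine chain_step hq (fun j hj => hg j (by omega)) okVecs2_13 okPow2_13 okConj2_13 ?_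
  refine chain_step hq (fun j hj => hg j (by omega)) okVecs2_12 okPow2_12 okConj2_12 ?_
  refine chain_step hq (fun j hj => hg j (by omega)) okVecs2_11 okPow2_11 okConj2_11 ?_
  refine chain_step hq (fun j hj => hg j (by omega)) okVecs2_10 okPow2_10 okConj2_10 ?_
  refine chain_step hq (fun j hj => hg j (by omega)) okVecs2_9 okPow2_9 okConj2_9 ?_
  refine chain_step hq (fun j hj => hg j (by omega)) okVecs2_8 okPow2_8 okConj2_8 ?_
  refine chain_step hq (fun j hj => hg j (by omega)) okVecs2_7 okPow2_7 okConj2_7 ?_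
  refine chain_step hq (fun j hj => hg j (by omega)) okVecs2_6 okPow2_6 okConj2_6 ?_
  refine chain_step hq (fun j hj => hg j (by omega)) okVecs2_5 okPow2_5 okConj2_5 ?_
  refine chain_step hq (fun j hj => hg j (by omega)) okVecs2_4 okPow2_4 okConj2_4 ?_
  refine chain_step hq (fun j hj => hg j (by omega)) okVecs2_3 okPow2_3 okConj2_3 ?_
  refine chain_step hq (fun j hj => hg j (by omega)) okVecs2_2 okPow2_2 okConj2_2 ?_
  refine chain_step hq (fun j hj => hg j (by omega)) okVecs2_1 okPow2_1 okConj2_1 ?_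
  refine chain_step hq (fun j hj => hg j (by omega)) okVecs2_0 okPow2_0 okConj2_0 ?_
  exact chain_start g 2

end CfsgLib.Spor.ThRep
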