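import Cfsg.Agent.Lib.Spor.ThRep.Trit
import Cfsg.Agent.Lib.Spor.ThRep.Data
import Cfsg.Agent.Lib.Spor.Th.Words

/-!
Words in the packed matrices of degree 248 and the invertible matrices they stand for.
-/

set_option autoImplicit false
set_option maxRecDepth 100000

namespace CfsgLib.Spor.ThRep

open Matrix
open CfsgLib.BitPerm (force force_eq)

/-- a product evaluated before it is used -/
noncomputable def forceP {α : Type} (P : ℕ × ℕ) (f : ℕ × ℕ → α) : α :=
  force P.1 fun a => force P.2 fun b => f (a, b)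

theorem forceP_eq {α : Type} (P : ℕ × ℕ) (f : ℕ × ℕ → α) : forceP P f = f P := by
  simp [forceP, force_eq]

/-- a packed matrix times the letters of a word -/
noncomputable def evalF : List ℕ → ℕ × ℕ → ℕ × ℕ
  | [], P => P
  | x :: w, P => forceP P fun P => evalF w (mulT 248 248 P (genT x))

/-- the value of a word -/
noncomputable def evalT (w : List ℕ) : ℕ × ℕ := evalF w (oneT 248)

/-- the inverse of a letter -/
def ivT : ℕ → ℕ
  | 5 => 6
  | 6 => 5
  | 7 => 8
  | 8 => 7
  | 9 => 10
  | 10 => 9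
  | x => x

/-- a generator is well formed and has the stated inverse -/
noncomputable def okGen (x : ℕ) : Bool :=
  okT (genT x) && eqT (mulT 248 248 (genT x) (genT (ivT x))) (oneT 248)

theorem ok_gens : (List.range 11).all okGen = true := by decide +kernel

theorem ok_genT (x : ℕ) : Ok 248 248 (genT x) := by
  have h := fun y hy => ok_of_okT (m := 248) (n := 248)
    (Bool.and_eq_true_iff.1 (List.all_eq_true.1 ok_gens y (List.mem_range.2 hy))).1
  by_cases hx : x < 11
  · exact h x hx
  · have e : genT x = genT 10 := by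
      obtain ⟨k, rfl⟩ : ∃ k, x = k + 11 := ⟨x - 11, by omega⟩
      rfl
    exact e ▸ h 10 (by norm_num)

theorem mul_iv {x : ℕ} (hx : x < 11) :
    toT 248 248 (genT x) * toT 248 248 (genT (ivT x)) = 1 := by
  have h := eq_of_eqT (Bool.and_eq_true_iff.1 (List.all_eq_true.1 ok_gens x (List.mem_range.2 hx))).2
  rw [← toT_mulT (ok_genT _) (ok_genT _), h, toT_oneT]

/-- an invertible matrix is the value of a packed matrix -/
def IsVal (g : GL (Fin 248) (ZMod 3)) (P : ℕ × ℕ) : Prop :=
  Ok 248 248 P ∧ (g : Matrix (Fin 248) (Fin 248) (ZMod 3)) = toT 248 248 P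

theorem IsVal.mul {g h : GL (Fin 248) (ZMod 3)} {P Q : ℕ × ℕ} (hg : IsVal g P) (hh : IsVal h Q) :
    IsVal (g * h) (mulT 248 248 P Q) :=
  ⟨ok_mulT hg.1 hh.1, by rw [Units.val_mul, hg.2, hh.2, toT_mulT hg.1 hh.1]⟩

theorem isVal_one : IsVal 1 (oneT 248) := ⟨ok_oneT 248, by rw [Units.val_one, toT_oneT]⟩

theorem IsVal.eq {g h : GL (Fin 248) (ZMod 3)} {P Q : ℕ × ℕ} (hg : IsVal g P) (hh : IsVal h Q)
    (e : eqT P Q = true) : g = h :=
  Units.ext (by rw [hg.2, hh.2, eq_of_eqT e])

/-- the letters as invertible matrices -/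
noncomputable def gl (x : ℕ) : GL (Fin 248) (ZMod 3) :=
  if hx : x < 11 then
    ⟨toT 248 248 (genT x), toT 248 248 (genT (ivT x)), mul_iv hx, by
      have hiv : ∀ y < 11, ivT (ivT y) = y ∧ ivT y < 11 := by decide
      have := mul_iv (hiv x hx).2
      rwa [(hiv x hx).1] at this⟩
  else 1

theorem isVal_gl {x : ℕ} (hx : x < 11) : IsVal (gl x) (genT x) :=
  ⟨ok_genT x, by rw [gl, dif_pos hx]⟩

theorem gl_mul_iv {x : ℕ} (hx : x < 11) : gl x * gl (ivT x) = 1 := by
  have hiv : ∀ y < 11, ivT y < 11 := by decide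
  exact Units.ext (by rw [Units.val_mul, (isVal_gl hx).2, (isVal_gl (hiv x hx)).2, mul_iv hx,
    Units.val_one])

theorem isVal_evalF : ∀ (w : List ℕ), (w.all fun x => Nat.blt x 11) = true →
    ∀ {g : GL (Fin 248) (ZMod 3)} {P : ℕ × ℕ}, IsVal g P → IsVal (g * (w.map gl).prod) (evalF w P)
  | [], _, g, P, hg => by simpa [evalF] using hg
  | x :: w, h, g, P, hg => by
    simp only [List.all_cons, Bool.and_eq_true, Nat.blt_eq] at h
    rw [List.map_cons, List.prod_cons, ← mul_assoc, evalF, forceP_eq]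
    exact isVal_evalF w h.2 (hg.mul (isVal_gl h.1))

theorem isVal_word (w : List ℕ) (h : (w.all fun x => Nat.blt x 11) = true) :
    IsVal (w.map gl).prod (evalT w) := by
  simpa [evalT] using isVal_evalF w h isVal_one

/-- a word stands for the identity -/
noncomputable def okRel (w : List ℕ) : Bool := w.all (fun x => Nat.blt x 11) && eqT (evalT w) (oneT 248)

theorem okRel_spec {w : List ℕ} (h : okRel w = true) : (w.map gl).prod = 1 := by
  rw [okRel, Bool.and_eq_true] at h
  exact (isVal_word w h.1).eq isVal_one h.2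

end CfsgLib.Spor.ThRep
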