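import Cfsg.Agent.Lib.Spor.ThRep.Eval

/-!
Part 2 of the relators of the Thompson group holds in degree 248.
-/

set_option autoImplicit false
set_option maxRecDepth 100000

namespace CfsgLib.Spor.ThRep

open CfsgLib.Spor.Th (thRels)

theorem ok_rel2 : ((thRels.drop 33).take 5).all okRel = true := by decide +kernel

end CfsgLib.Spor.ThRep
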