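import Cfsg.Agent.Lib.Spor.ThRep.Rel0
import Cfsg.Agent.Lib.Spor.ThRep.Rel1
import Cfsg.Agent.Lib.Spor.ThRep.Rel2
import Cfsg.Agent.Lib.Spor.ThRep.Rel3
import Cfsg.Agent.Lib.Spor.ThRep.Rel4
import Cfsg.Agent.Lib.Spor.Th.Rels

/-!
The representation of the presented Thompson group of degree 248 over the field of three elements.
-/

set_option autoImplicit false
set_option maxRecDepth 100000

namespace CfsgLib.Spor.ThRep

open Cfsg.Spor CfsgLib.Spor.Th

/-- the matrices of the generators -/
noncomputable def genVal : Th.Gen → GL (Fin 248) (ZMod 3)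
  | .a => gl 0
  | .b => gl 1
  | .c => gl 2
  | .d => gl 3
  | .e => gl 4
  | .s => gl 5
  | .t => gl 7
  | .u => gl 9

theorem thRels_split : thRels = thRels.take 13 ++ ((thRels.drop 13).take 7 ++
    ((thRels.drop 20).take 13 ++ ((thRels.drop 33).take 5 ++ thRels.drop 38))) := by decide +kernel

theorem rels_model : ∀ w ∈ thRels, (w.map gl).prod = 1 := by
  intro w hw
  rw [thRels_split] at hw
  simp only [List.mem_append] at hw
  rcases hw with h | h | h | h | h
  · exact okRel_spec (List.all_eq_true.1 ok_rel0 w h)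
  · exact okRel_spec (List.all_eq_true.1 ok_rel4 w h)
  · exact okRel_spec (List.all_eq_true.1 ok_rel1 w h)
  · exact okRel_spec (List.all_eq_true.1 ok_rel2 w h)
  · exact okRel_spec (List.all_eq_true.1 ok_rel3 w h)

theorem gl_inv {x : ℕ} (hx : x < 11) : (gl x)⁻¹ = gl (ivT x) :=
  inv_eq_of_mul_eq_one_right (gl_mul_iv hx)

theorem extra_model : ∀ r ∈ Th.extra, FreeGroup.lift genVal r = 1 := by
  intro r hr
  have hi : ∀ x : ℕ, x < 5 → (gl x)⁻¹ = gl x := fun x hx => by
    rw [gl_inv (by omega)]
    interval_cases x <;> rfl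
  have e := extra_map_aux (FreeGroup.lift genVal)
    (by simpa [Th.a, genVal] using hi 0 (by norm_num))
    (by simpa [Th.b, genVal] using hi 1 (by norm_num))
    (by simpa [Th.c, genVal] using hi 2 (by norm_num))
    (by simpa [Th.d, genVal] using hi 3 (by norm_num))
    (by simpa [Th.e, genVal] using hi 4 (by norm_num))
  have h : FreeGroup.lift genVal r ∈ Th.extra.map (FreeGroup.lift genVal) := List.mem_map.2 ⟨r, hr, rfl⟩
  rw [e] at h
  obtain ⟨w, hw, hr'⟩ := List.mem_map.1 h
  rw [← hr', ← rels_model w hw]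
  refine congrArg List.prod (List.map_congr_left fun x hx => ?_)
  have hlt : ∀ w ∈ thRels, ∀ x ∈ w, x < 11 := by decide +kernel
  have hx11 := hlt w hw x hx
  simp only [Th.a, Th.b, Th.c, Th.d, Th.e, Th.s, Th.t, Th.u, FreeGroup.lift_apply_of, genVal]
  interval_cases x
  all_goals rfl

/-- the representation -/
noncomputable def rep : Cfsg.Spor.Th →* GL (Fin 248) (ZMod 3) :=
  PresentedGroup.toGroup (f := genVal) (by
    rintro r (⟨x, hx, -⟩ | hr)
    · simp [coxNodes, Th.edges] at hx
    · exact extra_model r hr)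

theorem rep_gth (g : Th.Gen) : rep (gth g) = genVal g := PresentedGroup.toGroup.of _

theorem rep_letter {x : ℕ} (hx : x < 11) : rep (letter x) = gl x := by
  interval_cases x <;> simp only [letter, letterList, List.getD_cons_zero, List.getD_cons_succ,
    map_inv, rep_gth, genVal]
  all_goals rfl

theorem rep_tev : ∀ w : List ℕ, (∀ x ∈ w, x < 11) → rep (tev w) = (w.map gl).prod
  | [], _ => by simp [tev]
  | x :: w, h => by
    rw [tev_cons, map_mul, rep_letter (h x (List.mem_cons_self ..)),
      rep_tev w fun y hy => h y (List.mem_cons_of_mem _ hy), List.map_cons, List.prod_cons]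

theorem gl_zero_ne : gl 0 ≠ 1 := by
  intro h
  refine toT_ne (m := 248) (n := 248) (i := 120) (j := 120) (by norm_num) (by norm_num)
    (show (Bool.xor ((genT 0).1.testBit (248 * 120 + 120)) ((oneT 248).1.testBit (248 * 120 + 120)) ||
      Bool.xor ((genT 0).2.testBit (248 * 120 + 120)) ((oneT 248).2.testBit (248 * 120 + 120))) = true
      by decide +kernel)
    (ok_genT 0) (ok_oneT 248) ?_
  rw [← (isVal_gl (x := 0) (by norm_num)).2, ← isVal_one.2, h]

/-- the involution `a` of the presented group is nontrivial -/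
theorem th_a_ne : gth .a ≠ 1 := fun h => gl_zero_ne (by
  have := rep_gth .a
  rw [h, map_one] at this
  exact this.symm)

instance nontrivial_th : Nontrivial Cfsg.Spor.Th := ⟨gth .a, 1, th_a_ne⟩

end CfsgLib.Spor.ThRep
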