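import Cfsg.Agent.Lib.Spor.J4Rep.Bit
import Cfsg.Agent.Lib.BitPerm.Rep

/-!
Matrices over the field of three elements packed into two natural numbers: the positions of the
entries 1 and the positions of the entries 2. A product costs four multiplications of long numbers
for each column.
-/

set_option autoImplicit false

namespace CfsgLib.Spor.ThRep

open Matrix CfsgLib.Spor.J4Rep
open CfsgLib.BitPerm (force force_eq)

/-- two bits as an element of the field of three elements -/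
def tz (p q : Bool) : ZMod 3 := bif p then 1 else bif q then 2 else 0

/-- the matrix of a packed matrix -/
def toT (m n : ℕ) (P : ℕ × ℕ) : Matrix (Fin m) (Fin n) (ZMod 3) :=
  fun i j => tz (P.1.testBit (n * i + j)) (P.2.testBit (n * i + j))

/-- no entry is marked twice -/
def Ok (m n : ℕ) (P : ℕ × ℕ) : Prop := ∀ p < n * m, ¬(P.1.testBit p = true ∧ P.2.testBit p = true)

/-- the check for `Ok` -/
def okT (P : ℕ × ℕ) : Bool := Nat.beq (Nat.land P.1 P.2) 0

theorem ok_of_okT {m n : ℕ} {P : ℕ × ℕ} (h : okT P = true) : Ok m n P := by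
  rintro p - ⟨h1, h2⟩
  have e : P.1 &&& P.2 = 0 := Nat.eq_of_beq_eq_true h
  have := congrArg (fun x => Nat.testBit x p) e
  simp [h1, h2] at this

/-- the columns `k - 1, …, 0` of `P` times rows of `Q`, added to a packed matrix -/
noncomputable def mulLoop (n L md p₁ p₂ q₁ q₂ : ℕ) : ℕ → ℕ → ℕ → ℕ × ℕ
  | 0, a, b => (a, b)
  | k + 1, a, b =>
    force a fun a => force b fun b =>
    mulLoop n L md p₁ p₂ q₁ q₂ k
      (Nat.xor (Nat.lor b (Nat.lor (Nat.mul (Nat.land (Nat.shiftRight p₁ k) L) (Nat.mod (Nat.shiftRight q₂ (Nat.mul n k)) md))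
          (Nat.mul (Nat.land (Nat.shiftRight p₂ k) L) (Nat.mod (Nat.shiftRight q₁ (Nat.mul n k)) md))))
        (Nat.xor (Nat.lor a (Nat.lor (Nat.mul (Nat.land (Nat.shiftRight p₁ k) L) (Nat.mod (Nat.shiftRight q₂ (Nat.mul n k)) md))
          (Nat.mul (Nat.land (Nat.shiftRight p₂ k) L) (Nat.mod (Nat.shiftRight q₁ (Nat.mul n k)) md))))
        (Nat.lor b (Nat.lor (Nat.mul (Nat.land (Nat.shiftRight p₁ k) L) (Nat.mod (Nat.shiftRight q₁ (Nat.mul n k)) md))
          (Nat.mul (Nat.land (Nat.shiftRight p₂ k) L) (Nat.mod (Nat.shiftRight q₂ (Nat.mul n k)) md))))))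
      (Nat.xor (Nat.lor a (Nat.lor (Nat.mul (Nat.land (Nat.shiftRight p₁ k) L) (Nat.mod (Nat.shiftRight q₁ (Nat.mul n k)) md))
          (Nat.mul (Nat.land (Nat.shiftRight p₂ k) L) (Nat.mod (Nat.shiftRight q₂ (Nat.mul n k)) md))))
        (Nat.xor (Nat.lor a (Nat.lor (Nat.mul (Nat.land (Nat.shiftRight p₁ k) L) (Nat.mod (Nat.shiftRight q₂ (Nat.mul n k)) md))
          (Nat.mul (Nat.land (Nat.shiftRight p₂ k) L) (Nat.mod (Nat.shiftRight q₁ (Nat.mul n k)) md))))
        (Nat.lor b (Nat.lor (Nat.mul (Nat.land (Nat.shiftRight p₁ k) L) (Nat.mod (Nat.shiftRight q₁ (Nat.mul n k)) md))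
          (Nat.mul (Nat.land (Nat.shiftRight p₂ k) L) (Nat.mod (Nat.shiftRight q₂ (Nat.mul n k)) md))))))

/-- a mask in closed form -/
def lanesC (n m : ℕ) : ℕ := Nat.div (Nat.sub (Nat.pow 2 (Nat.mul n m)) 1) (Nat.sub (Nat.pow 2 n) 1)

theorem lanes_mul {n : ℕ} : ∀ m, lanes n m * (2 ^ n - 1) + 1 = 2 ^ (n * m)
  | 0 => by simp [lanes]
  | m + 1 => by
    obtain ⟨c, hc⟩ := Nat.exists_eq_succ_of_ne_zero (Nat.two_pow_pos n).ne'
    have ih := lanes_mul (n := n) m
    rw [show n * (m + 1) = n + n * m by ring, pow_add, lanes, ← ih, hc]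
    simp only [Nat.succ_eq_add_one, Nat.add_sub_cancel]
    ring

theorem lanesC_eq {n : ℕ} (hn : 0 < n) (m : ℕ) : lanesC n m = lanes n m := by
  have h2 : 2 ≤ 2 ^ n := Nat.le_self_pow (by omega) 2
  show (2 ^ (n * m) - 1) / (2 ^ n - 1) = _
  rw [← lanes_mul m, Nat.add_sub_cancel, Nat.mul_div_cancel _ (by omega)]

/-- the product of an `m × n` and an `n × n` matrix -/
noncomputable def mulT (m n : ℕ) (P Q : ℕ × ℕ) : ℕ × ℕ :=
  force (lanesC n m) fun L => force (Nat.pow 2 n) fun md => force P.1 fun p₁ => force P.2 fun p₂ =>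
  force Q.1 fun q₁ => force Q.2 fun q₂ => mulLoop n L md p₁ p₂ q₁ q₂ n 0 0

theorem tz_step : ∀ a b p q r s : Bool, ¬(a = true ∧ b = true) → ¬(p = true ∧ q = true) →
    ¬(r = true ∧ s = true) →
    let c := (p && r) || (q && s)
    let d := (p && s) || (q && r)
    let t := xor (a || d) (b || c)
    tz (xor (b || d) t) (xor (a || c) t) = tz a b + tz p q * tz r s ∧
      ¬(xor (b || d) t = true ∧ xor (a || c) t = true) := by decide

theorem testBit_colrow {m n : ℕ} (x y k i j : ℕ) (hi : i < m) (hj : j < n) :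
    ((Nat.land (Nat.shiftRight x k) (lanes n m)) *
      (Nat.mod (Nat.shiftRight y (n * k)) (2 ^ n))).testBit (n * i + j) =
      (x.testBit (n * i + k) && y.testBit (n * k + j)) := by
  show (((x >>> k) &&& lanes n m) * ((y >>> (n * k)) % 2 ^ n)).testBit (n * i + j) = _
  rw [testBit_lanes_mul (by omega) m _ _ i j (Nat.mod_lt _ (Nat.two_pow_pos n)) hi hj,
    Nat.testBit_shiftRight, Nat.testBit_mod_two_pow, Nat.testBit_shiftRight,
    show k + n * i = n * i + k by ring]
  simp [hj]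

theorem cell_lt {m n i j : ℕ} (hi : i < m) (hj : j < n) : n * i + j < n * m := by
  have h := Nat.mul_le_mul_left n (Nat.succ_le_of_lt hi)
  rw [Nat.mul_succ] at h
  omega

theorem mulLoop_spec {m n : ℕ} {P Q : ℕ × ℕ} (hP : Ok m n P) (hQ : Ok n n Q) (i j : ℕ) (hi : i < m)
    (hj : j < n) : ∀ k ≤ n, ∀ a b : ℕ,
    ¬(a.testBit (n * i + j) = true ∧ b.testBit (n * i + j) = true) →
    let R := mulLoop n (lanes n m) (2 ^ n) P.1 P.2 Q.1 Q.2 k a b
    tz (R.1.testBit (n * i + j)) (R.2.testBit (n * i + j)) =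
      tz (a.testBit (n * i + j)) (b.testBit (n * i + j)) +
      ∑ l ∈ Finset.range k, tz (P.1.testBit (n * i + l)) (P.2.testBit (n * i + l)) *
        tz (Q.1.testBit (n * l + j)) (Q.2.testBit (n * l + j)) ∧
      ¬(R.1.testBit (n * i + j) = true ∧ R.2.testBit (n * i + j) = true)
  | 0, _, a, b, hab => by simpa [mulLoop] using hab
  | k + 1, hk, a, b, hab => by
    have hk' : k < n := by omega
    have hs := tz_step _ _ _ _ _ _ hab (hP _ (cell_lt hi hk')) (hQ _ (cell_lt hk' hj))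
    have ex : ∀ x y, Nat.xor x y = x ^^^ y := fun _ _ => rfl
    have el : ∀ x y, Nat.lor x y = x ||| y := fun _ _ => rfl
    have em : ∀ x y, Nat.mul x y = x * y := fun _ _ => rfl
    intro R
    simp only [R, mulLoop, force_eq, ex, el]
    simp only [em]
    have ih := mulLoop_spec hP hQ i j hi hj k (by omega)
    simp only at hs
    obtain ⟨e1, e2⟩ := hs
    refine ⟨(ih _ _ ?_).1.trans ?_, (ih _ _ ?_).2⟩
    all_goals simp only [Nat.testBit_xor, Nat.testBit_or, testBit_colrow _ _ k i j hi hj]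
    · exact e2
    · rw [e1, Finset.sum_range_succ]
      abel
    · exact e2

theorem toT_mulT {m n : ℕ} {P Q : ℕ × ℕ} (hP : Ok m n P) (hQ : Ok n n Q) :
    toT m n (mulT m n P Q) = toT m n P * toT n n Q := by
  ext i j
  have hn : 0 < n := Nat.lt_of_le_of_lt (Nat.zero_le _) j.2
  rw [Matrix.mul_apply]
  simp only [toT, mulT, force_eq, lanesC_eq hn]
  refine (mulLoop_spec hP hQ i j i.2 j.2 n le_rfl 0 0 (by simp)).1.trans ?_
  simp only [Nat.zero_testBit, show tz false false = 0 from rfl, zero_add]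
  exact (Fin.sum_univ_eq_sum_range
    (fun l => tz (P.1.testBit (n * i + l)) (P.2.testBit (n * i + l)) *
      tz (Q.1.testBit (n * l + j)) (Q.2.testBit (n * l + j))) n).symm

theorem ok_mulT {m n : ℕ} {P Q : ℕ × ℕ} (hP : Ok m n P) (hQ : Ok n n Q) : Ok m n (mulT m n P Q) := by
  intro p hp
  have hn : 0 < n := Nat.pos_of_ne_zero fun e => by simp [e] at hp
  simp only [mulT, force_eq, lanesC_eq hn]
  have := (mulLoop_spec hP hQ (p / n) (p % n) (Nat.div_lt_of_lt_mul hp) (Nat.mod_lt p hn) n le_rfl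
    0 0 (by simp)).2
  rwa [Nat.div_add_mod] at this

/-- the identity -/
def oneT (n : ℕ) : ℕ × ℕ := (lanesC (n + 1) n, 0)

theorem ok_oneT (n : ℕ) : Ok n n (oneT n) := fun p _ h => by simp [oneT] at h

theorem toT_oneT (n : ℕ) : toT n n (oneT n) = 1 := by
  ext i j
  have h1 : toM n (oneB n) i j = (1 : Matrix (Fin n) (Fin n) (ZMod 2)) i j := by rw [toM_oneB]
  simp only [toM, oneB] at h1
  simp only [toT, oneT, lanesC_eq (Nat.succ_pos n), Nat.zero_testBit]
  by_cases h : i = j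
  · subst h
    rw [Matrix.one_apply_eq] at h1 ⊢
    cases hb : (lanes (n + 1) n).testBit (n * i + i) <;> simp [hb, bz, tz] at h1 ⊢
  · rw [Matrix.one_apply_ne h] at h1 ⊢
    cases hb : (lanes (n + 1) n).testBit (n * i + j) <;> simp [hb, bz, tz] at h1 ⊢

/-- equality of packed matrices -/
def eqT (P Q : ℕ × ℕ) : Bool := Nat.beq P.1 Q.1 && Nat.beq P.2 Q.2

theorem eq_of_eqT {P Q : ℕ × ℕ} (h : eqT P Q = true) : P = Q := by
  simp only [eqT, Bool.and_eq_true, Nat.beq_eq] at h
  exact Prod.ext h.1 h.2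

theorem toT_ne {m n : ℕ} {P Q : ℕ × ℕ} {i j : ℕ} (hi : i < m) (hj : j < n)
    (h : (Bool.xor (P.1.testBit (n * i + j)) (Q.1.testBit (n * i + j)) ||
      Bool.xor (P.2.testBit (n * i + j)) (Q.2.testBit (n * i + j))) = true)
    (hP : Ok m n P) (hQ : Ok m n Q) : toT m n P ≠ toT m n Q := by
  intro e
  have h0 := congrFun (congrFun e ⟨i, hi⟩) ⟨j, hj⟩
  have a := hP _ (cell_lt hi hj)
  have b := hQ _ (cell_lt hi hj)
  simp only [toT] at h0
  revert h h0 a b
  cases P.1.testBit (n * i + j) <;> cases P.2.testBit (n * i + j) <;>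
    cases Q.1.testBit (n * i + j) <;> cases Q.2.testBit (n * i + j) <;> decide

end CfsgLib.Spor.ThRep
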